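import Groth.Agent.Lib.FLFPush9.Basic
import Groth.Agent.Lib.Euler.Coh
import Groth.Agent.Lib.LocProj.Scheme
import Groth.Agent.Lib.LocFreeDual20.Basic
import Groth.Agent.Lib.FunMor20.ProjAffine
import Groth.Agent.Lib.FunFlat6.LimitFunctors
import Groth.Agent.Lib.UnifVanish7.Transfer
import Groth.Agent.Lib.OX.RHomDual
import Groth.Prelude.Def_PerfAux

/-!
# The resolution property descends along finite locally free surjections
-/

set_option autoImplicit false
set_option linter.style.haveILetI false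
set_option backward.isDefEq.respectTransparency false
set_option maxHeartbeats 1000000

universe u

open CategoryTheory CategoryTheory.Limits AlgebraicGeometry TopologicalSpace Opposite

noncomputable section

namespace GrothLib.ResDesc28

attribute [local instance] LocFreeHom.hasSheafHom

open LocFreeHom OX LocFreeDual20

variable {X S : Scheme.{u}} (f : X ⟶ S)

/-- The direct image of a finite locally free module along a finite locally free morphism. -/
theorem isFinLocFree_pushforward [IsFinite f] [Flat f] [LocallyOfFinitePresentation f] {E : X.Modules}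
    (hE : FlatMod.IsFinLocFree E) : FlatMod.IsFinLocFree ((Scheme.Modules.pushforward f).obj E) := by
  haveI := Euler.isQuasicoherent_of_isFinLocFree hE
  have hfin := (QCoh.isFiniteType_iff_moduleFinite E).1 (Euler.isCoh_of_isFinLocFree hE).2
  choose U n e hxU he using fun x : X => FinCov.exists_frame_nhd hE x
  choose W hW hxW hWU using fun x : X => exists_isAffineOpen_mem_and_subset (x := x) (U := U x) (hxU x)
  have hproj : ∀ {V : X.Opens}, IsAffineOpen V → Module.Projective Γ(X, V) Γ(E, V) := fun hV =>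
    LocProj.projective_sections E W (eq_top_iff.2 fun x _ => Opens.mem_iSup.2 ⟨x, hxW x⟩) hW
      (fun x => Module.Projective.of_basis ((he x).basis (W x) (hWU x))) hV
  let M := (Scheme.Modules.pushforward f).obj E
  haveI : M.IsQuasicoherent := QCoh.isQuasicoherent_pushforward f _
  refine OX.isFinLocFree_of_local fun x => ?_
  obtain ⟨U, hU, hxU, -⟩ := exists_isAffineOpen_mem_and_subset (Opens.mem_top x)
  refine ⟨Spec Γ(S, U), hU.fromSpec, inferInstance, by rw [hU.range_fromSpec]; exact hxU, ?_⟩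
  let N : (Spec Γ(S, U)).Modules := M.restrict hU.fromSpec
  letI := (f.app U).hom.toAlgebra
  have hle : f ⁻¹ᵁ U ≤ f ⁻¹ᵁ U := le_rfl
  haveI : Module.Finite Γ(S, U) Γ(X, f ⁻¹ᵁ U) := f.finite_app U hU
  haveI : Algebra.FinitePresentation Γ(S, U) Γ(X, f ⁻¹ᵁ U) := by
    have h := f.finitePresentation_appLE hU (hU.preimage f) hle
    rw [← Scheme.Hom.app_eq_appLE] at h
    exact h
  haveI : Module.Flat Γ(S, U) Γ(X, f ⁻¹ᵁ U) := by
    have h := f.flat_appLE hU (hU.preimage f) hle
    rw [← Scheme.Hom.app_eq_appLE] at h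
    exact h
  haveI : Module.FinitePresentation Γ(S, U) Γ(X, f ⁻¹ᵁ U) :=
    Module.FinitePresentation.of_finite_of_finitePresentation _ _
  haveI : Module.Projective Γ(S, U) Γ(X, f ⁻¹ᵁ U) := Module.Flat.projective_of_finitePresentation
  haveI := hfin (f ⁻¹ᵁ U) (hU.preimage f)
  haveI := hproj (hU.preimage f)
  letI : Module Γ(S, U) Γ(E, f ⁻¹ᵁ U) := Module.compHom _ (algebraMap Γ(S, U) Γ(X, f ⁻¹ᵁ U))
  haveI : IsScalarTower Γ(S, U) Γ(X, f ⁻¹ᵁ U) Γ(E, f ⁻¹ᵁ U) := IsScalarTower.of_compHom _ _ _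
  haveI : Module.Finite Γ(S, U) Γ(E, f ⁻¹ᵁ U) := Module.Finite.trans Γ(X, f ⁻¹ᵁ U) _
  haveI : Module.Flat Γ(S, U) Γ(E, f ⁻¹ᵁ U) := Module.Flat.trans Γ(S, U) Γ(X, f ⁻¹ᵁ U) Γ(E, f ⁻¹ᵁ U)
  haveI : Module.FinitePresentation Γ(X, f ⁻¹ᵁ U) Γ(E, f ⁻¹ᵁ U) := Module.finitePresentation_of_projective _ _
  haveI : Module.FinitePresentation Γ(S, U) Γ(E, f ⁻¹ᵁ U) :=
    Module.FinitePresentation.trans Γ(S, U) Γ(E, f ⁻¹ᵁ U) Γ(X, f ⁻¹ᵁ U)
  haveI : Module.Projective Γ(S, U) Γ(E, f ⁻¹ᵁ U) := Module.Flat.projective_of_finitePresentation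
  let e : Γ(E, f ⁻¹ᵁ U) ≃ₗ[Γ(S, U)] moduleSpecΓFunctor.obj N :=
    LinearEquiv.symm
      { (QCoh.secIso hU M ⊤ (QCoh.image_top hU)) with
        map_smul' := fun g x => QCoh.secIso_top_smul hU M g x }
  haveI : Module.Finite Γ(S, U) (moduleSpecΓFunctor.obj N) := Module.Finite.equiv e
  haveI : Module.Projective Γ(S, U) (moduleSpecΓFunctor.obj N) := Module.Projective.of_equiv e
  haveI : IsIso N.fromTildeΓ := (QCoh.isIso_fromTildeΓ_restrict_iff hU M).mpr fun g =>
    QCoh.smulLift_and_smulSep_of_isAffineOpen hU M g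
  exact DCoh.isFinLocFree_of_iso (asIso N.fromTildeΓ)
    (OX.isFinLocFree_tilde (moduleSpecΓFunctor.obj N))

variable {Y : Scheme.{u}}

/-- The transfer of evaluation along a map which is an isomorphism locally. -/
theorem epi_restrict_σ_iff {U : Scheme.{u}} (j : U ⟶ Y) [IsOpenImmersion j] {A F : Y.Modules} (a : A ⟶ F)
    (h : IsIso ((Scheme.Modules.restrictFunctor j).map a)) :
    Epi ((Scheme.Modules.restrictFunctor j).map (σ A)) ↔ Epi ((Scheme.Modules.restrictFunctor j).map (σ F)) := by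
  have h1 : IsIso ((Scheme.Modules.restrictFunctor j).map (tMap (hMap a (Coh.structureModule Y)) (𝟙 A))) := by
    rw [← tMap_left]
    exact isIso_restrict_tensor_left j _ (isIso_restrict_hMap j a h _) A
  have h2 : IsIso ((Scheme.Modules.restrictFunctor j).map (tMap (𝟙 (dual F)) a)) := by
    rw [← tMap_right]
    exact isIso_restrict_T_map j _ a h
  have e := congrArg (Scheme.Modules.restrictFunctor j).map (σ_dinatural a)
  rw [Functor.map_comp, Functor.map_comp] at e
  constructor <;> intro hh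
  · have h3 : Epi ((Scheme.Modules.restrictFunctor j).map (tMap (𝟙 (dual F)) a) ≫
        (Scheme.Modules.restrictFunctor j).map (σ F)) := e ▸ epi_comp _ _
    exact epi_of_epi ((Scheme.Modules.restrictFunctor j).map (tMap (𝟙 (dual F)) a)) _
  · have h3 : Epi ((Scheme.Modules.restrictFunctor j).map (tMap (hMap a (Coh.structureModule Y)) (𝟙 A)) ≫
        (Scheme.Modules.restrictFunctor j).map (σ A)) := e.symm ▸ epi_comp _ _
    exact epi_of_epi ((Scheme.Modules.restrictFunctor j).map (tMap (hMap a (Coh.structureModule Y)) (𝟙 A))) _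

/-- Evaluation on a free module of positive rank is an epimorphism. -/
theorem epi_σ_freeMod {n : ℕ} (i : Fin n) : Epi (σ (FlatMod.freeMod Y n)) := by
  let O := Coh.structureModule Y
  let a : O ⟶ FlatMod.freeMod Y n := Sigma.ι (fun _ : Fin n => O) i
  haveI : IsIso (σ O) := by
    haveI := isIso_ev_of_unit (Iso.refl O) O
    rw [σ]; infer_instance
  haveI : IsSplitEpi (hMap a O) := IsSplitEpi.mk' ⟨hMap (freeProj Y n i) O, by
    rw [← hMap_comp, ι_freeProj, if_pos rfl, hMap_id]⟩
  haveI : Epi (tMap (hMap a O) (𝟙 O)) := by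
    haveI : IsSplitEpi (tMap (hMap a O) (𝟙 O)) := IsSplitEpi.mk' ⟨tMap (section_ (hMap a O)) (𝟙 O), by
      rw [LocFreeDual20.tMap_comp, IsSplitEpi.id, Category.comp_id, OX.tMap_id]⟩
    infer_instance
  haveI : Epi (tMap (𝟙 (dual (FlatMod.freeMod Y n))) a ≫ σ (FlatMod.freeMod Y n)) := by
    rw [← σ_dinatural a]; infer_instance
  exact epi_of_epi (tMap (𝟙 (dual (FlatMod.freeMod Y n))) a) _

/-- Evaluation on a finite locally free module of nowhere zero rank is an epimorphism. -/
theorem epi_σ {E : Y.Modules} (hE : FlatMod.IsFinLocFree E)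
    (hpos : ∀ V : Y.Opens, Nonempty (E.restrict V.ι ≅ FlatMod.freeMod (↑V) 0) → V = ⊥) : Epi (σ E) := by
  refine (OX.epi_iff _).2 fun x => ?_
  obtain ⟨U, n, hxU, ⟨e⟩⟩ := hE x
  have hn : 0 < n := by
    by_contra h
    obtain rfl : n = 0 := by omega
    exact (hpos U ⟨e⟩ ▸ hxU : x ∈ (⊥ : Y.Opens))
  let R := Scheme.Modules.restrictFunctor U.ι
  let e' : R.obj (FlatMod.freeMod Y n) ≅ FlatMod.freeMod (U : Scheme.{u}) n :=
    (Scheme.Modules.restrictFunctorIsoPullback U.ι).app _ ≪≫ pullFreeModIso U.ι n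
  let c : R.obj E ≅ R.obj (FlatMod.freeMod Y n) := e ≪≫ e'.symm
  let a₂ : (CxOX.extZero U.ι).obj (R.obj E) ⟶ FlatMod.freeMod Y n :=
    (CxOX.extZero U.ι).map c.hom ≫ epsZ U.ι _
  have h₁ : IsIso (R.map (epsZ U.ι E)) := isIso_restrict_epsZ U.ι E
  have h₂ : IsIso (R.map a₂) := by
    have := isIso_restrict_epsZ U.ι (FlatMod.freeMod Y n)
    simp only [a₂, Functor.map_comp]
    infer_instance
  haveI : R.IsLeftAdjoint := (Scheme.Modules.restrictAdjunction U.ι).isLeftAdjoint
  have hfree : Epi (R.map (σ (FlatMod.freeMod Y n))) := by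
    haveI := epi_σ_freeMod (Y := Y) (n := n) ⟨0, hn⟩
    exact R.map_epi _
  haveI hE' : Epi (R.map (σ E)) := (epi_restrict_σ_iff U.ι _ h₁).1 ((epi_restrict_σ_iff U.ι _ h₂).2 hfree)
  exact OX.epi_stalk_map_of_restrict U.ι (σ E) ⟨x, hxU⟩ inferInstance

/-- The resolution property descends along finite locally free surjections. -/
theorem hasResolutionProperty_of_finLocFree [IsFinite f] [Flat f] [LocallyOfFinitePresentation f] [Surjective f]
    (hX : PerfAux.HasResolutionProperty X) : PerfAux.HasResolutionProperty S := by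
  intro M hM hft
  haveI : M.IsQuasicoherent := hM
  let F := (Scheme.Modules.pushforward f).obj (Coh.structureModule X)
  have hF : FlatMod.IsFinLocFree F := FLFPush9.isFinLocFree_pushforward f
  have hpos : ∀ V : S.Opens, Nonempty (F.restrict V.ι ≅ FlatMod.freeMod (↑V) 0) → V = ⊥ := by
    rintro V ⟨e⟩
    have hz : IsZero (F.restrict V.ι) := by
      refine IsZero.of_iso ((IsZero.iff_id_eq_zero _).2 ?_) e
      exact Sigma.hom_ext _ _ fun i => Fin.elim0 i
    have h0 : ∀ t : Γ(F.restrict V.ι, (⊤ : (V : Scheme.{u}).Opens)), t = 0 := fun t => by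
      have := congrArg (fun φ => Scheme.Modules.Hom.app φ ⊤ t) ((IsZero.iff_id_eq_zero _).1 hz)
      simpa using this
    have hsub : Subsingleton Γ(X, f ⁻¹ᵁ (V.ι ''ᵁ ⊤)) :=
      ⟨fun a b => (h0 a).trans (h0 b).symm⟩
    refine le_bot_iff.1 fun y hy => ?_
    obtain ⟨x, rfl⟩ := f.surjective y
    have hx : x ∈ f ⁻¹ᵁ (V.ι ''ᵁ ⊤) := ⟨⟨f x, hy⟩, trivial, rfl⟩
    exact (not_subsingleton (X.presheaf.stalk x)
      (RingHom.codomain_trivial (X.presheaf.germ _ x hx).hom)).elim
  haveI := epi_σ hF hpos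
  let P := (Scheme.Modules.pullback f).obj M
  haveI : P.IsQuasicoherent := FittSheaf.isQuasicoherent_pullback f M
  obtain ⟨E, π, hE, hπ⟩ := hX P inferInstance (FunFlat6.isFT_pullback f M hft)
  haveI := Euler.isQuasicoherent_of_isFinLocFree hE
  haveI := hπ
  haveI : Epi ((Scheme.Modules.pushforward f).map π) := by
    haveI := QCoh.isQuasicoherent_pushforward f P
    exact K0Sub.epi_of_app_surjective _ fun U => UnifVanish7.app_surjective_of_epi' π (U.2.preimage f)
  haveI := FunMor20.isIso_projHom_affine f (Coh.structureModule X) M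
  let i : (Scheme.Modules.pushforward f).obj P ≅ (T M).obj F :=
    (Scheme.Modules.pushforward f).mapIso (unitR P).symm ≪≫
      (asIso (ProjFormula.projHom f M (Coh.structureModule X))).symm
  let d := dual F
  have hd : FlatMod.IsFinLocFree d := isFinLocFree_iHom hF (OX.isFinLocFree_structureModule S)
  refine ⟨(T d).obj ((Scheme.Modules.pushforward f).obj E),
    (T d).map ((Scheme.Modules.pushforward f).map π ≫ i.hom) ≫ (br d ((T M).obj F)).hom ≫
      (tensorAssoc M F d).hom ≫ (T M).map ((br F d).hom ≫ σ F) ≫ (unitR M).hom,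
    OX.isFinLocFree_tensor hd (isFinLocFree_pushforward f hE), ?_⟩
  infer_instance

end GrothLib.ResDesc28
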