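import Groth.Agent.Lib.ResDesc28.Basic
import Groth.Agent.Lib.DirImg8.Colim

/-!
# Direct images of a generating family along a finite locally free surjection generate
-/

set_option autoImplicit false
set_option linter.style.haveILetI false
set_option backward.isDefEq.respectTransparency false
set_option maxHeartbeats 1000000

universe u

open CategoryTheory CategoryTheory.Limits AlgebraicGeometry TopologicalSpace Opposite

noncomputable section

namespace GrothLib.ResDesc28

attribute [local instance] LocFreeHom.hasSheafHom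

open LocFreeHom OX LocFreeDual20

variable {X S : Scheme.{u}} (f : X ⟶ S)

/-- The direct image of the structure sheaf has nowhere zero rank for a surjection. -/
theorem eq_bot_of_free_zero [Surjective f] (V : S.Opens)
    (h : Nonempty (((Scheme.Modules.pushforward f).obj (Coh.structureModule X)).restrict V.ι ≅ FlatMod.freeMod (↑V) 0)) :
    V = ⊥ := by
  obtain ⟨e⟩ := h
  let F := (Scheme.Modules.pushforward f).obj (Coh.structureModule X)
  have hz : IsZero (F.restrict V.ι) := by
    refine IsZero.of_iso ((IsZero.iff_id_eq_zero _).2 ?_) e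
    exact Sigma.hom_ext _ _ fun i => Fin.elim0 i
  have h0 : ∀ t : Γ(F.restrict V.ι, (⊤ : (V : Scheme.{u}).Opens)), t = 0 := fun t => by
    have := congrArg (fun φ => Scheme.Modules.Hom.app φ ⊤ t) ((IsZero.iff_id_eq_zero _).1 hz)
    simpa using this
  have hsub : Subsingleton Γ(X, f ⁻¹ᵁ (V.ι ''ᵁ ⊤)) :=
    ⟨fun a b => (h0 a).trans (h0 b).symm⟩
  refine le_bot_iff.1 fun y hy => ?_
  obtain ⟨x, rfl⟩ := f.surjective y
  have hx : x ∈ f ⁻¹ᵁ (V.ι ''ᵁ ⊤) := ⟨⟨f x, hy⟩, trivial, rfl⟩
  exact (not_subsingleton (X.presheaf.stalk x)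
    (RingHom.codomain_trivial (X.presheaf.germ _ x hx).hom)).elim

theorem exists_epi_push [IsFinite f] [Flat f] [LocallyOfFinitePresentation f] [Surjective f]
    {ι : Type u} (E : ι → X.Modules) (hE : ∀ i, (E i).IsQuasicoherent)
    (hgen : ∀ M : X.Modules, Coh.IsQCoh M →
      ∃ (κ : Type u) (j : κ → ι) (π : (∐ fun k : κ => E (j k)) ⟶ M), Epi π)
    (N : S.Modules) (hN : N.IsQuasicoherent) :
    ∃ (κ : Type u) (j : κ → ι) (π : (∐ fun k : κ => (Scheme.Modules.pushforward f).obj (E (j k))) ⟶ N), Epi π := by
  haveI := hN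
  let F := (Scheme.Modules.pushforward f).obj (Coh.structureModule X)
  have hF : FlatMod.IsFinLocFree F := FLFPush9.isFinLocFree_pushforward f
  haveI := epi_σ hF (eq_bot_of_free_zero f)
  have hd : FlatMod.IsFinLocFree (dual F) := isFinLocFree_iHom hF (OX.isFinLocFree_structureModule S)
  haveI := Euler.isQuasicoherent_of_isFinLocFree hd
  let N' := (T N).obj (dual F)
  haveI : N'.IsQuasicoherent := VA.isQCoh_tensor (E := N) inferInstance inferInstance
  let P := (Scheme.Modules.pullback f).obj N'
  haveI : P.IsQuasicoherent := FittSheaf.isQuasicoherent_pullback f N'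
  obtain ⟨κ, j, π, hπ⟩ := hgen P inferInstance
  haveI := hπ
  haveI : ∀ k : κ, (E (j k)).IsQuasicoherent := fun k => hE _
  haveI : (∐ fun k : κ => E (j k)).IsQuasicoherent := QCoh.isQuasicoherent_colimit _ fun k => hE _
  haveI : PreservesColimit (Discrete.functor fun k : κ => E (j k)) (Scheme.Modules.pushforward f) :=
    DirImg8.preservesColimit_pushforward f _ fun k => hE _
  haveI : Epi ((Scheme.Modules.pushforward f).map π) := by
    haveI := QCoh.isQuasicoherent_pushforward f P
    exact K0Sub.epi_of_app_surjective _ fun U => UnifVanish7.app_surjective_of_epi' π (U.2.preimage f)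
  haveI := FunMor20.isIso_projHom_affine f (Coh.structureModule X) N'
  let i : (Scheme.Modules.pushforward f).obj P ≅ (T N').obj F :=
    (Scheme.Modules.pushforward f).mapIso (unitR P).symm ≪≫
      (asIso (ProjFormula.projHom f N' (Coh.structureModule X))).symm
  refine ⟨κ, j, (PreservesCoproduct.iso (Scheme.Modules.pushforward f) fun k : κ => E (j k)).inv ≫
    (Scheme.Modules.pushforward f).map π ≫ i.hom ≫ (tensorAssoc N (dual F) F).hom ≫ (T N).map (σ F) ≫ (unitR N).hom,
    ?_⟩
  infer_instance

end GrothLib.ResDesc28
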